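import Mathlib

/-!
The linear map `G ↦ D · (G/E)'` from polynomials to the span of the polar parts: here
`E = ∏ (X - r_j)^(a_j)`, `R = ∏ (X - r_j)`, `D = E * R`, and `T G = G' R - G L` with `E' R = L E`.
-/

open Polynomial

set_option linter.unusedSectionVars false

namespace Groth.Agent.PolarLib

variable {k : Type*} [Field k] {ι : Type*} [DecidableEq ι]

noncomputable def Es (r : ι → k) (a : ι → ℕ) (s : Finset ι) : k[X] := ∏ j ∈ s, (X - C (r j)) ^ a j
noncomputable def Rs (r : ι → k) (s : Finset ι) : k[X] := ∏ j ∈ s, (X - C (r j))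
noncomputable def Ls (r : ι → k) (a : ι → ℕ) (s : Finset ι) : k[X] :=
  ∑ j ∈ s, C (a j : k) * ∏ l ∈ s.erase j, (X - C (r l))

lemma Rs_insert (r : ι → k) {s : Finset ι} {i : ι} (hi : i ∉ s) :
    Rs r (insert i s) = (X - C (r i)) * Rs r s := by simp [Rs, Finset.prod_insert hi]

lemma Es_insert (r : ι → k) (a : ι → ℕ) {s : Finset ι} {i : ι} (hi : i ∉ s) :
    Es r a (insert i s) = (X - C (r i)) ^ a i * Es r a s := by simp [Es, Finset.prod_insert hi]

lemma Ls_insert (r : ι → k) (a : ι → ℕ) {s : Finset ι} {i : ι} (hi : i ∉ s) :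
    Ls r a (insert i s) = C (a i : k) * Rs r s + (X - C (r i)) * Ls r a s := by
  rw [Ls, Finset.sum_insert hi, Finset.erase_insert hi, Ls, Rs, Finset.mul_sum]
  congr 1
  refine Finset.sum_congr rfl fun j hj => ?_
  have hne : i ≠ j := fun h => hi (h ▸ hj)
  rw [Finset.erase_insert_of_ne hne, Finset.prod_insert (by simp [hi])]
  ring

lemma derivative_Es (r : ι → k) (a : ι → ℕ) (s : Finset ι) :
    derivative (Es r a s) * Rs r s = Ls r a s * Es r a s := by
  induction s using Finset.induction with
  | empty => simp [Es, Rs, Ls]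
  | @insert i s hi ih =>
    rw [Es_insert r a hi, Rs_insert r hi, Ls_insert r a hi, derivative_mul, derivative_X_sub_C_pow]
    rcases a i with _ | n
    · simp only [Nat.cast_zero, map_zero, zero_mul, zero_add, pow_zero, one_mul]
      linear_combination (X - C (r i)) * ih
    · simp only [Nat.add_sub_cancel, pow_succ]
      linear_combination (X - C (r i)) ^ n * (X - C (r i)) * (X - C (r i)) * ih

variable [Fintype ι] (r : ι → k) (a : ι → ℕ)

noncomputable def E : k[X] := Es r a Finset.univ
noncomputable def R : k[X] := Rs r Finset.univ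
noncomputable def L : k[X] := Ls r a Finset.univ

noncomputable def T : k[X] →ₗ[k] k[X] :=
  (LinearMap.mulLeft k (R r)).comp derivative - LinearMap.mulLeft k (L r a)

lemma T_apply (G : k[X]) : T r a G = derivative G * R r - G * L r a := by
  simp [T, mul_comm]

lemma T_mul_E (P : k[X]) : T r a (E r a * P) = derivative P * (E r a * R r) := by
  rw [T_apply, derivative_mul]
  simp only [E, R, L]
  linear_combination P * derivative_Es r a Finset.univ

lemma T_E : T r a (E r a) = 0 := by
  simpa using T_mul_E r a 1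

lemma T_sub_smul (G : k[X]) (c : k) : T r a (G - c • E r a) = T r a G := by
  rw [map_sub, map_smul, T_E, smul_zero, sub_zero]

lemma E_split (i : ι) :
    E r a = (X - C (r i)) ^ a i * Es r a (Finset.univ.erase i) := by
  rw [E, ← Es_insert r a (Finset.notMem_erase i Finset.univ),
    Finset.insert_erase (Finset.mem_univ i)]

lemma R_split (i : ι) : R r = (X - C (r i)) * Rs r (Finset.univ.erase i) := by
  rw [R, ← Rs_insert r (Finset.notMem_erase i Finset.univ),
    Finset.insert_erase (Finset.mem_univ i)]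

lemma L_split (i : ι) :
    L r a = C (a i : k) * Rs r (Finset.univ.erase i)
      + (X - C (r i)) * Ls r a (Finset.univ.erase i) := by
  rw [L, ← Ls_insert r a (Finset.notMem_erase i Finset.univ),
    Finset.insert_erase (Finset.mem_univ i)]

lemma T_mul_Ei (i : ι) (g : k[X]) :
    T r a (Es r a (Finset.univ.erase i) * g)
      = Es r a (Finset.univ.erase i) * Rs r (Finset.univ.erase i)
        * ((X - C (r i)) * derivative g - C (a i : k) * g) := by
  rw [T_apply, derivative_mul, R_split r i, L_split r a i]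
  linear_combination (g * (X - C (r i))) * derivative_Es r a (Finset.univ.erase i)

lemma prod_succ_eq (s : Finset ι) :
    ∏ j ∈ s, (X - C (r j)) ^ (a j + 1) = Es r a s * Rs r s := by
  rw [Es, Rs, ← Finset.prod_mul_distrib]; simp [pow_succ]

/-! Values at the marked points. -/

lemma eval_Es_ne (s : Finset ι) {q : k} (hq : ∀ j ∈ s, q ≠ r j) :
    (Es r a s).eval q ≠ 0 := by
  rw [Es, eval_prod]
  refine Finset.prod_ne_zero_iff.mpr fun j hj => ?_
  simp [sub_eq_zero, hq j hj]

lemma eval_Rs_ne (s : Finset ι) {q : k} (hq : ∀ j ∈ s, q ≠ r j) : (Rs r s).eval q ≠ 0 := by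
  rw [Rs, eval_prod]
  refine Finset.prod_ne_zero_iff.mpr fun j hj => ?_
  simp [sub_eq_zero, hq j hj]

lemma erase_ne {r : ι → k} (hr : Function.Injective r) (i : ι) :
    ∀ j ∈ Finset.univ.erase i, r i ≠ r j :=
  fun _ hj h => Finset.ne_of_mem_erase hj (hr h).symm

/-! Local analysis. -/

lemma T_pow_succ_mul (q : k) (n : ℕ) (S : k[X]) :
    T r a ((X - C q) ^ (n + 1) * S) = (X - C q) ^ n *
      (C ((n + 1 : ℕ) : k) * S * R r + (X - C q) * (derivative S * R r - S * L r a)) := by
  rw [T_apply, derivative_mul, derivative_X_sub_C_pow, Nat.add_sub_cancel, pow_succ]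
  ring

lemma T_pow_mul_root (i : ι) (n : ℕ) (S : k[X]) :
    T r a ((X - C (r i)) ^ n * S) = (X - C (r i)) ^ n *
      ((C (n : k) - C (a i : k)) * S * Rs r (Finset.univ.erase i) + (X - C (r i)) *
        (derivative S * Rs r (Finset.univ.erase i) - S * Ls r a (Finset.univ.erase i))) := by
  rw [T_apply, derivative_mul, derivative_X_sub_C_pow, R_split r i, L_split r a i]
  rcases n with _ | n
  · simp; ring
  · rw [Nat.add_sub_cancel, pow_succ]; ring

lemma eval_eq_zero_of_pow_dvd {q : k} {j n : ℕ} {Q : k[X]} (hjn : j < n)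
    (h : (X - C q) ^ n ∣ (X - C q) ^ j * Q) : Q.eval q = 0 := by
  have h' : (X - C q) ^ (j + 1) ∣ (X - C q) ^ j * Q := (pow_dvd_pow _ hjn).trans h
  rw [pow_succ] at h'
  exact dvd_iff_isRoot.mp ((mul_dvd_mul_iff_left (pow_ne_zero _ (X_sub_C_ne_zero q))).mp h')

lemma dvd_T_of_dvd {q : k} {n : ℕ} {G : k[X]} (h : (X - C q) ^ (n + 1) ∣ G) :
    (X - C q) ^ n ∣ T r a G := by
  obtain ⟨S, rfl⟩ := h
  rw [T_pow_succ_mul]; exact dvd_mul_right _ _

lemma dvd_T_root_of_dvd {i : ι} {n : ℕ} {G : k[X]} (h : (X - C (r i)) ^ n ∣ G) :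
    (X - C (r i)) ^ n ∣ T r a G := by
  obtain ⟨S, rfl⟩ := h
  rw [T_pow_mul_root]; exact dvd_mul_right _ _

variable [CharZero k]

theorem dvd_T_iff {q : k} (hq : ∀ j, q ≠ r j) (G : k[X]) (n : ℕ) :
    (X - C q) ^ n ∣ T r a G ↔ ∃ c : k, (X - C q) ^ (n + 1) ∣ G - c • E r a := by
  constructor
  · intro h
    suffices hs : ∀ j ≤ n + 1, ∃ c : k, (X - C q) ^ j ∣ G - c • E r a from hs _ le_rfl
    intro j
    induction j with
    | zero => exact fun _ => ⟨0, by simp⟩
    | succ j ih =>
      intro hj
      obtain ⟨c, S, hS⟩ := ih (by omega)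
      have hE : (E r a).eval q ≠ 0 := eval_Es_ne r a _ fun j _ => hq j
      rcases j with _ | j
      · refine ⟨c + S.eval q / (E r a).eval q, ?_⟩
        rw [pow_zero, one_mul] at hS
        rw [zero_add, pow_one, dvd_iff_isRoot, IsRoot, add_smul, ← sub_sub, hS, eval_sub,
          eval_smul, smul_eq_mul, div_mul_cancel₀ _ hE, sub_self]
      · refine ⟨c, ?_⟩
        have h' := h
        rw [← T_sub_smul r a G c, hS, T_pow_succ_mul] at h'
        have hz := eval_eq_zero_of_pow_dvd (by omega) h'
        simp only [eval_add, eval_mul, eval_C, eval_sub, eval_X, sub_self, zero_mul,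
          add_zero] at hz
        have hR : (R r).eval q ≠ 0 := eval_Rs_ne r _ fun j _ => hq j
        have hS0 : S.eval q = 0 := by
          rcases mul_eq_zero.mp hz with h1 | h1
          · exact (mul_eq_zero.mp h1).resolve_left (Nat.cast_ne_zero.mpr (Nat.succ_ne_zero j))
          · exact absurd h1 hR
        rw [hS, pow_succ]
        exact mul_dvd_mul_left _ (dvd_iff_isRoot.mpr hS0)
  · rintro ⟨c, hc⟩
    rw [← T_sub_smul r a G c]
    exact dvd_T_of_dvd r a hc

theorem dvd_T_root_iff {r : ι → k} (hr : Function.Injective r) (a : ι → ℕ) (i : ι) (G : k[X])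
    (n : ℕ) : (X - C (r i)) ^ n ∣ T r a G ↔ ∃ c : k, (X - C (r i)) ^ n ∣ G - c • E r a := by
  constructor
  · intro h
    suffices hs : ∀ j ≤ n, ∃ c : k, (X - C (r i)) ^ j ∣ G - c • E r a from hs _ le_rfl
    intro j
    induction j with
    | zero => exact fun _ => ⟨0, by simp⟩
    | succ j ih =>
      intro hj
      obtain ⟨c, S, hS⟩ := ih (by omega)
      by_cases hja : j = a i
      · have hE : (Es r a (Finset.univ.erase i)).eval (r i) ≠ 0 :=
          eval_Es_ne r a _ (erase_ne hr i)
        set e := (Es r a (Finset.univ.erase i)).eval (r i)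
        refine ⟨c + S.eval (r i) / e, ?_⟩
        rw [add_smul, ← sub_sub, hS, E_split r a i, hja, ← mul_smul_comm, ← mul_sub, pow_succ]
        refine mul_dvd_mul_left _ (dvd_iff_isRoot.mpr ?_)
        rw [IsRoot, eval_sub, eval_smul, smul_eq_mul, div_mul_cancel₀ _ hE, sub_self]
      · refine ⟨c, ?_⟩
        have h' := h
        rw [← T_sub_smul r a G c, hS, T_pow_mul_root] at h'
        have hz := eval_eq_zero_of_pow_dvd (by omega) h'
        simp only [eval_add, eval_mul, eval_C, eval_sub, eval_X, sub_self, zero_mul,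
          add_zero] at hz
        have hR : (Rs r (Finset.univ.erase i)).eval (r i) ≠ 0 := eval_Rs_ne r _ (erase_ne hr i)
        have hS0 : S.eval (r i) = 0 := by
          rcases mul_eq_zero.mp hz with h1 | h1
          · exact (mul_eq_zero.mp h1).resolve_left (sub_ne_zero.mpr (by exact_mod_cast hja))
          · exact absurd h1 hR
        rw [hS, pow_succ]
        exact mul_dvd_mul_left _ (dvd_iff_isRoot.mpr hS0)
  · rintro ⟨c, hc⟩
    rw [← T_sub_smul r a G c]
    exact dvd_T_root_of_dvd r a hc

/-! Behaviour at infinity. -/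

omit [CharZero k] in
lemma natDegree_Rs (s : Finset ι) : (Rs r s).natDegree = s.card := by
  rw [Rs, natDegree_prod _ _ fun j _ => X_sub_C_ne_zero _]; simp

omit [CharZero k] in
lemma monic_Rs (s : Finset ι) : (Rs r s).Monic := monic_prod_X_sub_C _ _

omit [CharZero k] in
lemma monic_Es (s : Finset ι) : (Es r a s).Monic :=
  monic_prod_of_monic _ _ fun _ _ => (monic_X_sub_C _).pow _

omit [CharZero k] in
lemma natDegree_Es (s : Finset ι) : (Es r a s).natDegree = ∑ j ∈ s, a j := by
  rw [Es, natDegree_prod _ _ fun j _ => pow_ne_zero _ (X_sub_C_ne_zero _)]; simp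

omit [CharZero k] in
lemma natDegree_E : (E r a).natDegree = ∑ j, a j := natDegree_Es r a _

omit [CharZero k] in
lemma monic_E : (E r a).Monic := monic_Es r a _

omit [CharZero k] in
lemma XL_deg : (X * L r a).natDegree ≤ Fintype.card ι ∧
    (X * L r a).coeff (Fintype.card ι) = ((∑ j, a j : ℕ) : k) := by
  have hterm : ∀ j : ι, (X * Rs r (Finset.univ.erase j)).natDegree = Fintype.card ι ∧
      (X * Rs r (Finset.univ.erase j)).coeff (Fintype.card ι) = 1 := by
    intro j
    have hd : (X * Rs r (Finset.univ.erase j)).natDegree = Fintype.card ι := by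
      rw [natDegree_mul X_ne_zero (monic_Rs r _).ne_zero, natDegree_X, natDegree_Rs,
        Finset.card_erase_of_mem (Finset.mem_univ j), Finset.card_univ]
      have : 0 < Fintype.card ι := Fintype.card_pos_iff.mpr ⟨j⟩
      omega
    have hm := (monic_X.mul (monic_Rs r (Finset.univ.erase j))).coeff_natDegree
    rw [hd] at hm
    exact ⟨hd, hm⟩
  have hX : X * L r a = ∑ j, C (a j : k) * (X * Rs r (Finset.univ.erase j)) := by
    rw [L, Ls, Finset.mul_sum]; exact Finset.sum_congr rfl fun j _ => mul_left_comm _ _ _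
  rw [hX]
  refine ⟨natDegree_sum_le_of_forall_le _ _ fun j _ =>
    (natDegree_C_mul_le _ _).trans (hterm j).1.le, ?_⟩
  rw [finsetSum_coeff, Nat.cast_sum]
  exact Finset.sum_congr rfl fun j _ => by rw [coeff_C_mul, (hterm j).2, mul_one]

omit [CharZero k] in
lemma XT_deg {G : k[X]} {n : ℕ} (hG : G.natDegree ≤ n) :
    (X * T r a G).natDegree ≤ n + Fintype.card ι ∧
    (X * T r a G).coeff (n + Fintype.card ι) = ((n : k) - ((∑ j, a j : ℕ) : k)) * G.coeff n := by
  have hX : X * T r a G = (X * derivative G) * R r - G * (X * L r a) := by rw [T_apply]; ring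
  have hd : (X * derivative G).natDegree ≤ n ∧ (X * derivative G).coeff n = (n : k) * G.coeff n := by
    constructor
    · rcases n with _ | n
      · rw [eq_C_of_natDegree_le_zero hG]; simp
      · refine natDegree_mul_le.trans ?_
        rw [natDegree_X]
        have := natDegree_derivative_le G
        omega
    · rcases n with _ | n
      · simp
      · rw [coeff_X_mul, coeff_derivative]; push_cast; ring
  have hR : (R r).natDegree = Fintype.card ι := by rw [R, natDegree_Rs, Finset.card_univ]
  rw [hX]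
  constructor
  · refine (natDegree_sub_le _ _).trans (max_le ?_ ?_)
    · exact natDegree_mul_le.trans (by have := hd.1; omega)
    · exact natDegree_mul_le.trans (by have := (XL_deg r a).1; omega)
  · rw [coeff_sub, coeff_mul_add_eq_of_natDegree_le hd.1 hR.le,
      coeff_mul_add_eq_of_natDegree_le hG (XL_deg r a).1, hd.2, (XL_deg r a).2, ← hR,
      show (R r).coeff (R r).natDegree = 1 from (monic_Rs r _).coeff_natDegree]
    ring

omit [CharZero k] in
lemma mem_degreeLT_succ {G : k[X]} {n : ℕ} : G ∈ degreeLT k (n + 1) ↔ G.natDegree ≤ n := by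
  rw [mem_degreeLT, Nat.cast_add, Nat.cast_one]
  by_cases hG : G = 0
  · simp [hG]
  · rw [degree_eq_natDegree hG]
    norm_cast
    omega

omit [CharZero k] in
lemma T_mem_degreeLT {G : k[X]} {n : ℕ} (hG : G ∈ degreeLT k (n + 1)) :
    T r a G ∈ degreeLT k (n + Fintype.card ι) := by
  have h := (XT_deg r a (mem_degreeLT_succ.mp hG)).1
  rw [mem_degreeLT, degree_lt_iff_coeff_zero]
  intro j hj
  rw [← coeff_X_mul]
  exact coeff_eq_zero_of_natDegree_lt (by omega)

theorem exists_sub_mem_degreeLT {G : k[X]} {M n : ℕ} (hG : G ∈ degreeLT k (M + 1))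
    (hn : n ≤ M + 1) (h : T r a G ∈ degreeLT k (M + Fintype.card ι - n))
    (_hE : ∑ j, a j ≤ M) :
    ∃ c : k, G - c • E r a ∈ degreeLT k (M + 1 - n) := by
  suffices hs : ∀ j ≤ n, ∃ c : k, G - c • E r a ∈ degreeLT k (M + 1 - j) from hs _ le_rfl
  intro j
  induction j with
  | zero => exact fun _ => ⟨0, by simpa using hG⟩
  | succ j ih =>
    intro hj
    obtain ⟨c, hc⟩ := ih (by omega)
    rw [show M + 1 - j = (M - j) + 1 by omega, mem_degreeLT_succ] at hc
    set G' := G - c • E r a with hG'
    have hco : ∀ P : k[X], P.natDegree ≤ M - j → P.coeff (M - j) = 0 →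
        P ∈ degreeLT k (M + 1 - (j + 1)) := by
      intro P hP hP0
      rw [show M + 1 - (j + 1) = M - j by omega, mem_degreeLT, degree_lt_iff_coeff_zero]
      intro l hl
      rcases hl.eq_or_lt with rfl | hl'
      · exact hP0
      · exact coeff_eq_zero_of_natDegree_lt (hP.trans_lt hl')
    by_cases hMA : M - j = ∑ l, a l
    · refine ⟨c + G'.coeff (M - j), ?_⟩
      rw [add_smul, ← sub_sub, ← hG']
      refine hco _ ((natDegree_sub_le _ _).trans (max_le hc ?_)) ?_
      · exact (natDegree_smul_le _ _).trans (by rw [natDegree_E]; omega)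
      · rw [coeff_sub, coeff_smul, hMA, ← natDegree_E r a,
          show (E r a).coeff (E r a).natDegree = 1 from (monic_Es r a _).coeff_natDegree,
          smul_eq_mul, mul_one, sub_self]
    · refine ⟨c, hco _ hc ?_⟩
      have h1 := (XT_deg r a hc).2
      rw [hG', T_sub_smul, ← hG'] at h1
      have h0 : (X * T r a G).coeff (M - j + Fintype.card ι) = 0 := by
        rcases Nat.eq_zero_or_pos (M - j + Fintype.card ι) with h2 | h2
        · rw [h2]; simp
        · obtain ⟨l, hl⟩ := Nat.exists_eq_succ_of_ne_zero h2.ne'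
          rw [hl, Nat.succ_eq_add_one, coeff_X_mul]
          rw [mem_degreeLT, degree_lt_iff_coeff_zero] at h
          exact h l (by omega)
      rw [h0] at h1
      exact (mul_eq_zero.mp h1.symm).resolve_left (sub_ne_zero.mpr (by exact_mod_cast hMA))

theorem ker_T : LinearMap.ker (T r a) = Submodule.span k {E r a} := by
  refine le_antisymm (fun G hG => ?_) ?_
  · rw [LinearMap.mem_ker] at hG
    obtain ⟨c, hc⟩ := exists_sub_mem_degreeLT r a (G := G)
      (M := G.natDegree + ∑ j, a j) (n := G.natDegree + (∑ j, a j) + 1)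
      (mem_degreeLT_succ.mpr (Nat.le_add_right _ _)) le_rfl (by rw [hG]; exact Submodule.zero_mem _)
      (Nat.le_add_left _ _)
    rw [Nat.sub_self, mem_degreeLT, Nat.cast_zero, Nat.WithBot.lt_zero_iff,
      degree_eq_bot, sub_eq_zero] at hc
    exact Submodule.mem_span_singleton.mpr ⟨c, hc.symm⟩
  · rw [Submodule.span_le, Set.singleton_subset_iff]
    exact T_E r a

end Groth.Agent.PolarLib
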