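import Mathlib
import Groth.Agent.PolarLib.Basic

/-!
The span of the polar parts is the image under `T` of the polynomials of degree `≤ N`; its
filtrations by order of vanishing.
-/

open Polynomial

set_option linter.unusedSectionVars false

namespace Groth.Agent.PolarLib

variable {k : Type*} [Field k] [CharZero k] {ι : Type*} [DecidableEq ι] [Fintype ι]
variable (r : ι → k) (a : ι → ℕ)

noncomputable def Vsp (b : ℕ) : Submodule k k[X] :=
  (degreeLT k b).map (LinearMap.mulLeft k (∏ j, (X - C (r j)) ^ (a j + 1))) ⊔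
    ⨆ i, (degreeLT k (a i)).map
      (LinearMap.mulLeft k (∏ j ∈ Finset.univ.erase i, (X - C (r j)) ^ (a j + 1)))

lemma finrank_degreeLT (n : ℕ) : Module.finrank k (degreeLT k n) = n := by
  rw [(degreeLTEquiv k n).finrank_eq, Module.finrank_fin_fun]

instance finite_degreeLT (n : ℕ) : Module.Finite k (degreeLT k n) :=
  Module.Finite.equiv (degreeLTEquiv k n).symm

/-- `g ↦ (X - s) g' - A g`. -/
noncomputable def polarOp (s : k) (A : ℕ) : k[X] →ₗ[k] k[X] :=
  (LinearMap.mulLeft k (X - C s)).comp derivative - LinearMap.mulLeft k (C (A : k))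

lemma polarOp_apply (s : k) (A : ℕ) (g : k[X]) :
    polarOp s A g = (X - C s) * derivative g - C (A : k) * g := by simp [polarOp]

lemma polarOp_mem (s : k) (A : ℕ) {g : k[X]} (hg : g ∈ degreeLT k A) :
    polarOp s A g ∈ degreeLT k A := by
  rcases A with _ | n
  · rw [mem_degreeLT, Nat.cast_zero, Nat.WithBot.lt_zero_iff, degree_eq_bot] at hg
    subst hg; rw [map_zero]; exact Submodule.zero_mem _
  · rw [mem_degreeLT_succ] at hg ⊢
    rw [polarOp_apply]
    refine (natDegree_sub_le _ _).trans (max_le ?_ ((natDegree_C_mul_le _ _).trans hg))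
    rcases n with _ | n
    · rw [eq_C_of_natDegree_le_zero hg]; simp
    · refine natDegree_mul_le.trans ?_
      rw [natDegree_X_sub_C]
      have := natDegree_derivative_le g
      omega

lemma exists_polarOp_eq (s : k) (A : ℕ) {g : k[X]} (hg : g ∈ degreeLT k A) :
    ∃ h ∈ degreeLT k A, polarOp s A h = g := by
  let f : degreeLT k A →ₗ[k] degreeLT k A := (polarOp s A).restrict fun _ h => polarOp_mem s A h
  have hf : Function.Injective f := by
    rw [← LinearMap.ker_eq_bot, LinearMap.ker_eq_bot']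
    rintro ⟨h, hh⟩ h0
    have h1 : polarOp s A h = 0 := congrArg Subtype.val h0
    apply Subtype.ext
    show h = 0
    by_contra hne
    rw [mem_degreeLT, degree_eq_natDegree hne, Nat.cast_lt] at hh
    set n := h.natDegree with hn
    have hc := congrArg (fun p : k[X] => p.coeff n) h1
    rcases Nat.eq_zero_or_pos n with h2 | h2
    · have e0 : h = C (h.coeff 0) := eq_C_of_natDegree_eq_zero (hn ▸ h2)
      obtain ⟨z, hz⟩ : ∃ z, h = C z := ⟨_, e0⟩
      rw [hz] at hne hc
      rw [polarOp_apply, derivative_C, mul_zero, zero_sub] at hc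
      simp only [coeff_neg, coeff_C_mul, coeff_zero, h2, coeff_C_zero, neg_eq_zero,
        mul_eq_zero, Nat.cast_eq_zero] at hc
      rcases hc with hc | hc
      · omega
      · exact hne (by rw [hc, map_zero])
    · obtain ⟨l, hl⟩ := Nat.exists_eq_succ_of_ne_zero h2.ne'
      have e : polarOp s A h = X * derivative h - C s * derivative h - C (A : k) * h := by
        rw [polarOp_apply]; ring
      have e2 : (derivative h).coeff n = 0 := by
        rw [coeff_derivative, coeff_eq_zero_of_natDegree_lt (by omega), zero_mul]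
      simp only [e, coeff_sub, coeff_C_mul, coeff_zero, hl, Nat.succ_eq_add_one,
        coeff_X_mul, coeff_derivative] at hc
      have h3 : ((n : k) - (A : k)) * h.coeff n = 0 := by
        rw [hl, Nat.succ_eq_add_one, Nat.cast_succ]
        rw [hl] at e2
        simp only [Nat.succ_eq_add_one, coeff_derivative] at e2
        simp only [e2, mul_zero, sub_zero] at hc
        linear_combination hc
      have h4 : ((n : k) - (A : k)) ≠ 0 := sub_ne_zero.mpr (by exact_mod_cast hh.ne)
      exact leadingCoeff_ne_zero.mpr hne ((mul_eq_zero.mp h3).resolve_left h4)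
  obtain ⟨⟨h, hh⟩, h'⟩ := LinearMap.injective_iff_surjective.mp hf ⟨g, hg⟩
  exact ⟨h, hh, congrArg Subtype.val h'⟩

lemma Es_erase_natDegree (i : ι) :
    (Es r a (Finset.univ.erase i)).natDegree + a i = ∑ j, a j := by
  rw [natDegree_Es, add_comm, Finset.add_sum_erase _ _ (Finset.mem_univ i)]

variable {r}

theorem exists_decomp (hr : Function.Injective r) (b : ℕ) {G : k[X]}
    (hG : G ∈ degreeLT k ((∑ j, a j) + b + 1)) :
    ∃ p : k[X], p ∈ degreeLT k (b + 1) ∧ ∃ g : ι → k[X], (∀ i, g i ∈ degreeLT k (a i)) ∧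
      G = E r a * p + ∑ i, Es r a (Finset.univ.erase i) * g i := by
  have hcop : ∀ i j : ι, i ≠ j → IsCoprime (X - C (r i)) (X - C (r j)) := fun i j hij =>
    isCoprime_X_sub_C_of_isUnit_sub (sub_ne_zero.mpr fun h => hij (hr h)).isUnit
  have hloc : ∀ i : ι, ∃ g : k[X], g ∈ degreeLT k (a i) ∧
      (X - C (r i)) ^ a i ∣ G - Es r a (Finset.univ.erase i) * g := by
    intro i
    have h1 : IsCoprime (Es r a (Finset.univ.erase i)) ((X - C (r i)) ^ a i) :=
      IsCoprime.prod_left fun j hj => ((hcop j i (Finset.ne_of_mem_erase hj)).pow)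
    obtain ⟨u, v, huv⟩ := h1
    set P := (X - C (r i)) ^ a i
    have hP : P.Monic := (monic_X_sub_C _).pow _
    refine ⟨(u * G) %ₘ P, ?_, ?_⟩
    · rw [mem_degreeLT]
      refine (degree_modByMonic_lt _ hP).trans_le ?_
      rw [degree_pow, degree_X_sub_C, nsmul_one]
    · rw [modByMonic_eq_sub_mul_div]
      exact ⟨v * G + Es r a (Finset.univ.erase i) * ((u * G) /ₘ P), by
        linear_combination (-G) * huv⟩
  choose g hg hdvd using hloc
  obtain ⟨p, hp⟩ : E r a ∣ G - ∑ i, Es r a (Finset.univ.erase i) * g i := by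
    refine Finset.prod_dvd_of_coprime (fun i _ j _ hij => (hcop i j hij).pow) fun i _ => ?_
    rw [← Finset.add_sum_erase _ _ (Finset.mem_univ i), ← sub_sub]
    refine dvd_sub (hdvd i) (Finset.dvd_sum fun j hj => dvd_mul_of_dvd_left ?_ _)
    exact Finset.dvd_prod_of_mem (fun l => (X - C (r l)) ^ a l)
      (Finset.mem_erase.mpr ⟨(Finset.ne_of_mem_erase hj).symm, Finset.mem_univ i⟩)
  refine ⟨p, ?_, g, hg, by linear_combination hp⟩
  by_cases hp0 : p = 0
  · rw [hp0]; exact Submodule.zero_mem _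
  · rw [mem_degreeLT_succ] at hG ⊢
    have h1 : (G - ∑ i, Es r a (Finset.univ.erase i) * g i).natDegree ≤ (∑ j, a j) + b := by
      refine (natDegree_sub_le _ _).trans (max_le hG (natDegree_sum_le_of_forall_le _ _ fun i _ => ?_))
      refine natDegree_mul_le.trans ?_
      have h2 := Es_erase_natDegree r a i
      have h3 : (g i).natDegree ≤ a i := natDegree_le_of_degree_le (mem_degreeLT.mp (hg i)).le
      omega
    rw [hp, natDegree_mul (monic_E r a).ne_zero hp0, natDegree_E] at h1
    omega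

theorem map_T_eq_Vsp (hr : Function.Injective r) (b : ℕ) :
    (degreeLT k ((∑ j, a j) + b + 1)).map (T r a) = Vsp r a b := by
  have hD : ∏ j, (X - C (r j)) ^ (a j + 1) = E r a * R r := prod_succ_eq r a _
  have hDi : ∀ i, ∏ j ∈ Finset.univ.erase i, (X - C (r j)) ^ (a j + 1)
      = Es r a (Finset.univ.erase i) * Rs r (Finset.univ.erase i) := fun i => prod_succ_eq r a _
  have hgen : ∀ (i : ι) (g : k[X]), g ∈ degreeLT k (a i) →
      Es r a (Finset.univ.erase i) * g ∈ degreeLT k ((∑ j, a j) + b + 1) := fun i g hg => by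
    rw [mem_degreeLT_succ]
    refine natDegree_mul_le.trans ?_
    have h2 := Es_erase_natDegree r a i
    have h3 : g.natDegree ≤ a i := natDegree_le_of_degree_le (mem_degreeLT.mp hg).le
    omega
  refine le_antisymm ?_ (sup_le ?_ (iSup_le fun i => ?_))
  · rintro _ ⟨G, hG, rfl⟩
    obtain ⟨p, hp, g, hg, rfl⟩ := exists_decomp a hr b hG
    rw [map_add, map_sum, T_mul_E]
    refine Submodule.add_mem _ (Submodule.mem_sup_left ⟨derivative p, ?_, ?_⟩)
      (Submodule.sum_mem _ fun i _ => Submodule.mem_sup_right (Submodule.mem_iSup_of_mem i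
        ⟨polarOp (r i) (a i) (g i), polarOp_mem _ _ (hg i), ?_⟩))
    · rw [mem_degreeLT_succ] at hp
      rw [SetLike.mem_coe, mem_degreeLT, degree_lt_iff_coeff_zero]
      intro j hj
      rw [coeff_derivative, coeff_eq_zero_of_natDegree_lt (by omega), zero_mul]
    · rw [LinearMap.mulLeft_apply, hD, mul_comm]
    · rw [LinearMap.mulLeft_apply, hDi, T_mul_Ei, polarOp_apply]
  · rintro _ ⟨q, hq, rfl⟩
    refine ⟨E r a * (∑ j ∈ Finset.range b, C (q.coeff j / (j + 1 : ℕ)) * X ^ (j + 1)), ?_, ?_⟩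
    · rw [SetLike.mem_coe, mem_degreeLT_succ]
      refine natDegree_mul_le.trans (Nat.add_le_add (natDegree_E r a).le
        (natDegree_sum_le_of_forall_le _ _ fun j hj => ?_))
      refine (natDegree_C_mul_le _ _).trans ?_
      rw [natDegree_X_pow]
      exact Nat.succ_le_of_lt (Finset.mem_range.mp hj)
    · rw [T_mul_E, LinearMap.mulLeft_apply, hD, mul_comm, derivative_sum]
      congr 1
      rw [SetLike.mem_coe, mem_degreeLT] at hq
      conv_rhs => rw [as_sum_range_C_mul_X_pow' (n := b + 1) q (by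
        by_cases h0 : q = 0
        · simp [h0]
        · rw [degree_eq_natDegree h0, Nat.cast_lt] at hq; omega)]
      rw [Finset.sum_range_succ, coeff_eq_zero_of_degree_lt hq, map_zero, zero_mul, add_zero]
      refine Finset.sum_congr rfl fun j _ => ?_
      rw [derivative_C_mul_X_pow, Nat.add_sub_cancel,
        div_mul_cancel₀ _ (Nat.cast_ne_zero.mpr (Nat.succ_ne_zero j))]
  · rintro _ ⟨g, hg, rfl⟩
    obtain ⟨h, hh, hhg⟩ := exists_polarOp_eq (r i) (a i) hg
    exact ⟨Es r a (Finset.univ.erase i) * h, hgen i h hh,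
      by rw [LinearMap.mulLeft_apply, hDi, T_mul_Ei, ← hhg, polarOp_apply]⟩

variable (r)

theorem finrank_map_T {S : Submodule k k[X]} [Module.Finite k S] :
    Module.finrank k (S.map (T r a)) + Module.finrank k ↥(S ⊓ Submodule.span k {E r a})
      = Module.finrank k S := by
  have h1 := LinearMap.finrank_range_add_finrank_ker ((T r a).domRestrict S)
  rw [LinearMap.range_domRestrict, LinearMap.ker_domRestrict] at h1
  rw [← ker_T r a, inf_comm]
  have h2 : (Submodule.comap S.subtype (LinearMap.ker (T r a)))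
      = Submodule.comap S.subtype (LinearMap.ker (T r a) ⊓ S) := by
    rw [Submodule.comap_inf, Submodule.comap_subtype_self, inf_top_eq]
  have h3 := (Submodule.comapSubtypeEquivOfLe
    (inf_le_right : LinearMap.ker (T r a) ⊓ S ≤ S)).finrank_eq
  rw [← h3, ← h2]
  exact h1

theorem finrank_map_T_of_mem {S : Submodule k k[X]} [Module.Finite k S] (h : E r a ∈ S) :
    Module.finrank k (S.map (T r a)) + 1 = Module.finrank k S := by
  have h1 := finrank_map_T r a (S := S)
  rwa [inf_eq_right.mpr ((Submodule.span_singleton_le_iff_mem _ _).mpr h),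
    finrank_span_singleton (monic_E r a).ne_zero] at h1

theorem finrank_map_T_of_not_mem {S : Submodule k k[X]} [Module.Finite k S] (h : E r a ∉ S) :
    Module.finrank k (S.map (T r a)) = Module.finrank k S := by
  have h1 := finrank_map_T r a (S := S)
  have h2 : S ⊓ Submodule.span k {E r a} = ⊥ := by
    rw [eq_bot_iff]
    rintro x ⟨hx, hx'⟩
    obtain ⟨c, rfl⟩ := Submodule.mem_span_singleton.mp hx'
    rw [Submodule.mem_bot]
    by_contra hne
    have hc : c ≠ 0 := fun h0 => hne (by rw [h0, zero_smul])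
    exact h ((Submodule.smul_mem_iff _ hc).mp hx)
  rw [h2, finrank_bot, add_zero] at h1
  exact h1

/-- Multiples of a monic polynomial of bounded degree. -/
theorem degreeLT_inf_span {g : k[X]} (hg : g.Monic) (M : ℕ) :
    degreeLT k M ⊓ (Ideal.span {g}).restrictScalars k
      = (degreeLT k (M - g.natDegree)).map (LinearMap.mulLeft k g) := by
  ext x
  simp only [Submodule.mem_inf, Submodule.restrictScalars_mem, Ideal.mem_span_singleton,
    Submodule.mem_map, LinearMap.mulLeft_apply, mem_degreeLT]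
  constructor
  · rintro ⟨hx, y, rfl⟩
    refine ⟨y, ?_, rfl⟩
    by_cases hy : y = 0
    · simp [hy]
    · rw [degree_eq_natDegree (mul_ne_zero hg.ne_zero hy), natDegree_mul hg.ne_zero hy,
        Nat.cast_lt] at hx
      rw [degree_eq_natDegree hy, Nat.cast_lt]
      omega
  · rintro ⟨y, hy, rfl⟩
    refine ⟨?_, dvd_mul_right _ _⟩
    by_cases hy0 : y = 0
    · simp [hy0]
    · rw [degree_eq_natDegree hy0, Nat.cast_lt] at hy
      rw [degree_eq_natDegree (mul_ne_zero hg.ne_zero hy0), natDegree_mul hg.ne_zero hy0,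
        Nat.cast_lt]
      omega

theorem finrank_degreeLT_inf (q : k) (M n : ℕ) :
    Module.finrank k ↥(degreeLT k M ⊓ (Ideal.span {(X - C q) ^ n}).restrictScalars k) = M - n := by
  rw [degreeLT_inf_span ((monic_X_sub_C q).pow n)]
  rw [(Submodule.equivMapOfInjective _ (mul_right_injective₀ (pow_ne_zero _ (X_sub_C_ne_zero q)))
    _).symm.finrank_eq, finrank_degreeLT, natDegree_pow, natDegree_X_sub_C, mul_one]

instance (M : ℕ) (q : k) (n : ℕ) : Module.Finite k
    ↥(degreeLT k M ⊓ (Ideal.span {(X - C q) ^ n}).restrictScalars k) :=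
  Submodule.finiteDimensional_inf_left _ _

instance (b : ℕ) (S : Submodule k k[X]) : Module.Finite k ↥((degreeLT k b).map (T r a) ⊓ S) :=
  Submodule.finiteDimensional_inf_left _ _

variable {r}

lemma E_mem {b : ℕ} : E r a ∈ degreeLT k ((∑ j, a j) + b + 1) := by
  rw [mem_degreeLT_succ, natDegree_E]; omega

lemma sub_E_mem {b : ℕ} {G : k[X]} (hG : G ∈ degreeLT k ((∑ j, a j) + b + 1)) (c : k) :
    G - c • E r a ∈ degreeLT k ((∑ j, a j) + b + 1) :=
  Submodule.sub_mem _ hG (Submodule.smul_mem _ c (E_mem a))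

theorem Vsp_inf_point (hr : Function.Injective r) (b : ℕ) {q : k} (hq : ∀ j, q ≠ r j) (n : ℕ) :
    Vsp r a b ⊓ (Ideal.span {(X - C q) ^ n}).restrictScalars k
      = (degreeLT k ((∑ j, a j) + b + 1) ⊓
          (Ideal.span {(X - C q) ^ (n + 1)}).restrictScalars k).map (T r a) := by
  rw [← map_T_eq_Vsp a hr b]
  ext x
  simp only [Submodule.mem_inf, Submodule.restrictScalars_mem, Ideal.mem_span_singleton,
    Submodule.mem_map]
  constructor
  · rintro ⟨⟨G, hG, rfl⟩, hn⟩
    obtain ⟨c, hc⟩ := (dvd_T_iff r a hq G n).mp hn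
    exact ⟨G - c • E r a, ⟨sub_E_mem a hG c, hc⟩, T_sub_smul r a G c⟩
  · rintro ⟨G, ⟨hG, hd⟩, rfl⟩
    exact ⟨⟨G, hG, rfl⟩, dvd_T_of_dvd r a hd⟩

theorem Vsp_inf_root (hr : Function.Injective r) (b : ℕ) (i : ι) (n : ℕ) :
    Vsp r a b ⊓ (Ideal.span {(X - C (r i)) ^ n}).restrictScalars k
      = (degreeLT k ((∑ j, a j) + b + 1) ⊓
          (Ideal.span {(X - C (r i)) ^ n}).restrictScalars k).map (T r a) := by
  rw [← map_T_eq_Vsp a hr b]
  ext x
  simp only [Submodule.mem_inf, Submodule.restrictScalars_mem, Ideal.mem_span_singleton,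
    Submodule.mem_map]
  constructor
  · rintro ⟨⟨G, hG, rfl⟩, hn⟩
    obtain ⟨c, hc⟩ := (dvd_T_root_iff hr a i G n).mp hn
    exact ⟨G - c • E r a, ⟨sub_E_mem a hG c, hc⟩, T_sub_smul r a G c⟩
  · rintro ⟨G, ⟨hG, hd⟩, rfl⟩
    exact ⟨⟨G, hG, rfl⟩, dvd_T_root_of_dvd r a hd⟩

theorem Vsp_inf_infty (hr : Function.Injective r) (b : ℕ) (n : ℕ) :
    Vsp r a b ⊓ degreeLT k ((∑ j, a j) + b + Fintype.card ι - n)
      = (degreeLT k ((∑ j, a j) + b + 1 - n)).map (T r a) := by
  rw [← map_T_eq_Vsp a hr b]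
  ext x
  simp only [Submodule.mem_inf, Submodule.mem_map]
  constructor
  · rintro ⟨⟨G, hG, rfl⟩, hn⟩
    rcases le_total n ((∑ j, a j) + b + 1) with h | h
    · obtain ⟨c, hc⟩ := exists_sub_mem_degreeLT r a hG h hn (by omega)
      exact ⟨_, hc, T_sub_smul r a G c⟩
    · have hn' : T r a G ∈ degreeLT k
          ((∑ j, a j) + b + Fintype.card ι - ((∑ j, a j) + b + 1)) :=
        degreeLT_mono (by omega) hn
      obtain ⟨c, hc⟩ := exists_sub_mem_degreeLT r a hG le_rfl hn' (by omega)
      exact ⟨_, degreeLT_mono (by omega) hc, T_sub_smul r a G c⟩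
  · rintro ⟨G, hG, rfl⟩
    refine ⟨⟨G, degreeLT_mono (Nat.sub_le _ _) hG, rfl⟩, ?_⟩
    rcases Nat.eq_zero_or_pos ((∑ j, a j) + b + 1 - n) with h | h
    · rw [h, mem_degreeLT, Nat.cast_zero, Nat.WithBot.lt_zero_iff, degree_eq_bot] at hG
      subst hG
      rw [map_zero]; exact Submodule.zero_mem _
    · obtain ⟨l, hl⟩ := Nat.exists_eq_succ_of_ne_zero h.ne'
      rw [hl, Nat.succ_eq_add_one] at hG
      exact degreeLT_mono (by omega) (T_mem_degreeLT r a hG)

theorem finrank_Vsp (hr : Function.Injective r) (b : ℕ) :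
    Module.finrank k (Vsp r a b) = (∑ j, a j) + b := by
  rw [← map_T_eq_Vsp a hr b]
  have h := finrank_map_T_of_mem r a (E_mem (r := r) a (b := b))
  rw [finrank_degreeLT] at h
  omega

theorem finrank_Vsp_point (hr : Function.Injective r) (b : ℕ) {q : k} (hq : ∀ j, q ≠ r j) (n : ℕ) :
    Module.finrank k ↥(Vsp r a b ⊓ (Ideal.span {(X - C q) ^ n}).restrictScalars k)
      = (∑ j, a j) + b - n := by
  rw [Vsp_inf_point a hr b hq n]
  have hE : E r a ∉ degreeLT k ((∑ j, a j) + b + 1) ⊓
      (Ideal.span {(X - C q) ^ (n + 1)}).restrictScalars k := by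
    rintro ⟨-, h⟩
    rw [SetLike.mem_coe, Submodule.restrictScalars_mem, Ideal.mem_span_singleton] at h
    exact eval_Es_ne r a _ (fun j _ => hq j)
      (dvd_iff_isRoot.mp ((dvd_pow_self _ n.succ_ne_zero).trans h))
  rw [finrank_map_T_of_not_mem r a hE, finrank_degreeLT_inf]
  omega

theorem finrank_Vsp_root (hr : Function.Injective r) (b : ℕ) (i : ι) (n : ℕ) :
    Module.finrank k ↥(Vsp r a b ⊓ (Ideal.span {(X - C (r i)) ^ n}).restrictScalars k)
      = if n ≤ a i then (∑ j, a j) + b - n else (∑ j, a j) + b + 1 - n := by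
  rw [Vsp_inf_root a hr b i n]
  split_ifs with h
  · have hE : E r a ∈ degreeLT k ((∑ j, a j) + b + 1) ⊓
        (Ideal.span {(X - C (r i)) ^ n}).restrictScalars k := by
      refine ⟨E_mem a, ?_⟩
      rw [SetLike.mem_coe, Submodule.restrictScalars_mem, Ideal.mem_span_singleton, E_split r a i]
      exact dvd_mul_of_dvd_left (pow_dvd_pow _ h) _
    have h1 := finrank_map_T_of_mem r a hE
    rw [finrank_degreeLT_inf] at h1
    omega
  · have hE : E r a ∉ degreeLT k ((∑ j, a j) + b + 1) ⊓
        (Ideal.span {(X - C (r i)) ^ n}).restrictScalars k := by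
      rintro ⟨-, h'⟩
      rw [SetLike.mem_coe, Submodule.restrictScalars_mem, Ideal.mem_span_singleton,
        E_split r a i] at h'
      exact eval_Es_ne r a _ (erase_ne hr i) (eval_eq_zero_of_pow_dvd (Nat.lt_of_not_le h) h')
    rw [finrank_map_T_of_not_mem r a hE, finrank_degreeLT_inf]

theorem finrank_Vsp_infty (hr : Function.Injective r) (b : ℕ) (n : ℕ) :
    Module.finrank k ↥(Vsp r a b ⊓ degreeLT k ((∑ j, a j) + b + Fintype.card ι - n))
      = if n ≤ b then (∑ j, a j) + b - n else (∑ j, a j) + b + 1 - n := by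
  rw [Vsp_inf_infty a hr b n]
  split_ifs with h
  · have hE : E r a ∈ degreeLT k ((∑ j, a j) + b + 1 - n) := by
      rw [show (∑ j, a j) + b + 1 - n = (∑ j, a j) + b - n + 1 by omega, mem_degreeLT_succ,
        natDegree_E]
      omega
    have h1 := finrank_map_T_of_mem r a hE
    rw [finrank_degreeLT] at h1
    omega
  · have hE : E r a ∉ degreeLT k ((∑ j, a j) + b + 1 - n) := by
      rw [mem_degreeLT, degree_eq_natDegree (monic_E r a).ne_zero, Nat.cast_lt,
        natDegree_E]
      omega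
    rw [finrank_map_T_of_not_mem r a hE, finrank_degreeLT]

end Groth.Agent.PolarLib
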