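import Mathlib
import Groth.Agent.PolarLib.Space

/-!
Hyperplanes in the span of the polar parts: weights at the marked points and the unmarked
ramification point.
-/

open Polynomial

set_option linter.unusedSectionVars false

namespace Groth.Agent.PolarLib

section Abstract

variable {k : Type*} [Field k] {W : Type*} [AddCommGroup W] [Module k W]

theorem finrank_inf_of_not_le {V H A : Submodule k W} [Module.Finite k V] (hH : H ≤ V)
    (hdim : Module.finrank k H + 1 = Module.finrank k V) (hA : A ≤ V) (hn : ¬A ≤ H) :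
    Module.finrank k ↥(H ⊓ A) + 1 = Module.finrank k A := by
  haveI : Module.Finite k H := Submodule.finiteDimensional_of_le hH
  haveI : Module.Finite k A := Submodule.finiteDimensional_of_le hA
  have h1 := Submodule.finrank_sup_add_finrank_inf_eq H A
  have h2 : Module.finrank k ↥(H ⊔ A) ≤ Module.finrank k V :=
    Submodule.finrank_mono (sup_le hH hA)
  have h3 : Module.finrank k H < Module.finrank k ↥(H ⊔ A) :=
    Submodule.finrank_lt_finrank_of_lt (lt_of_le_of_ne le_sup_left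
      fun h => hn (h ▸ le_sup_right))
  omega

theorem sum_orders {N e d : ℕ} (he : e ≤ N) (hd : N ≤ d) :
    ∑ n ∈ Finset.range d, (if n + 1 ≤ e then N - (n + 1) else N + 1 - (n + 1))
      = N.choose 2 + (N - e) := by
  obtain ⟨c, rfl⟩ := Nat.exists_eq_add_of_le hd
  rw [Finset.sum_range_add]
  have h0 : ∀ n ∈ Finset.range c,
      (if N + n + 1 ≤ e then N - (N + n + 1) else N + 1 - (N + n + 1)) = 0 :=
    fun n _ => by split_ifs <;> omega
  rw [Finset.sum_eq_zero h0, add_zero]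
  induction N generalizing e with
  | zero => simp [Nat.le_zero.mp he]
  | succ N ih =>
    rw [Nat.choose_succ_succ, Nat.choose_one_right, Finset.sum_range_succ']
    rcases e with _ | e
    · have h := ih (e := 0) (Nat.zero_le _) (Nat.le_add_right _ _) (fun n _ => by
        rw [if_neg (by omega)]; omega)
      simp only [show ∀ n, ¬(n + 1 ≤ 0) by omega, if_false] at h
      simp only [show ∀ n, ¬(n + 1 + 1 ≤ 0) by omega, show ∀ n, ¬(n + 1 ≤ 0) by omega, if_false]
      rw [Finset.sum_congr rfl fun n _ => show N + 1 + 1 - (n + 1 + 1) = N + 1 - (n + 1) by omega,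
        h]
      simp only [Nat.reduceSucc]
      omega
    · have h := ih (e := e) (by omega) (Nat.le_add_right _ _) (fun n _ => by
        split_ifs <;> omega)
      rw [Finset.sum_congr rfl fun n _ =>
        show (if n + 1 + 1 ≤ e + 1 then N + 1 - (n + 1 + 1) else N + 1 + 1 - (n + 1 + 1))
          = (if n + 1 ≤ e then N - (n + 1) else N + 1 - (n + 1)) by split_ifs <;> omega, h,
        if_pos (by omega)]
      simp only [Nat.reduceSucc]
      omega

theorem hyperplane_weight {N e d : ℕ} (V H : Submodule k W) [Module.Finite k V]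
    (f : ℕ → Submodule k W) (hf : Antitone f) (hfV : ∀ n, f n ≤ V) (hH : H ≤ V)
    (hV : Module.finrank k V = N) (hdim : Module.finrank k H + 1 = N)
    (hfd : ∀ n, Module.finrank k (f n) = if n ≤ e then N - n else N + 1 - n)
    (he : e ≤ N) (hd : N ≤ d + 1) (hd' : e < N → N ≤ d) (hnot : ¬f (N - 1) ≤ H) :
    ∃ ε : ℕ, ε ≤ 1 ∧
      (∑ n ∈ Finset.range d, Module.finrank k ↥(H ⊓ f (n + 1))) + 1
        = (N - 1).choose 2 + (N - e) + ε := by
  have hlow : ∀ n ≤ N - 1, Module.finrank k ↥(H ⊓ f n) + 1 = Module.finrank k (f n) := fun n hn =>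
    finrank_inf_of_not_le hH (by omega) (hfV n) fun h => hnot ((hf hn).trans h)
  have hle : ∀ n, Module.finrank k ↥(H ⊓ f n) ≤ Module.finrank k (f n) := fun n => by
    haveI : Module.Finite k (f n) := Submodule.finiteDimensional_of_le (hfV n)
    exact Submodule.finrank_mono inf_le_right
  obtain ⟨M, hM⟩ := Nat.exists_eq_succ_of_ne_zero (show N ≠ 0 by omega)
  subst hM
  rw [Nat.succ_sub_one] at hlow ⊢
  have hsum : (∑ n ∈ Finset.range M, Module.finrank k ↥(H ⊓ f (n + 1))) + M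
      = ∑ n ∈ Finset.range M, (if n + 1 ≤ e then M + 1 - (n + 1) else M + 1 + 1 - (n + 1)) := by
    have h1 := Finset.sum_congr rfl fun n (hn : n ∈ Finset.range M) =>
      (hlow (n + 1) (Finset.mem_range.mp hn)).trans (hfd (n + 1))
    rw [Finset.sum_add_distrib, Finset.sum_const, Finset.card_range, smul_eq_mul, mul_one] at h1
    exact h1
  have htot := sum_orders (N := M + 1) (e := e) (d := M + 1) he le_rfl
  rw [Finset.sum_range_succ, ← hsum, Nat.choose_succ_succ, Nat.choose_one_right] at htot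
  obtain ⟨c, hc⟩ := Nat.exists_eq_add_of_le (show M ≤ d by omega)
  subst hc
  rcases c with _ | c
  · have he' : e = M + 1 := by omega
    subst he'
    refine ⟨1, le_rfl, ?_⟩
    rw [if_pos le_rfl] at htot
    simp only [add_zero, Nat.sub_self] at htot ⊢
    simp only [Nat.reduceSucc] at htot
    omega
  · rw [Finset.sum_range_add, Finset.sum_range_succ']
    have hz : ∀ n ∈ Finset.range c, Module.finrank k ↥(H ⊓ f (M + (n + 1) + 1)) = 0 := fun n _ => by
      have h1 := hle (M + (n + 1) + 1)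
      rw [hfd] at h1
      split_ifs at h1 <;> omega
    rw [Finset.sum_eq_zero hz, zero_add, add_zero]
    have h1 := hle (M + 1)
    rw [hfd] at h1
    simp only [Nat.succ_eq_add_one] at h1 ⊢
    split_ifs at h1 htot with h
    · refine ⟨1, le_rfl, ?_⟩
      simp only [Nat.reduceSucc] at htot
      omega
    · refine ⟨Module.finrank k ↥(H ⊓ f (M + 1)), by omega, ?_⟩
      simp only [Nat.reduceSucc] at htot
      omega

theorem finrank_inf_le_one {V H A : Submodule k W} [Module.Finite k V] (hH : H ≤ V)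
    (hdim : Module.finrank k H + 1 = Module.finrank k V) (hA : A ≤ V)
    (h2 : Module.finrank k A ≤ 2) (hn : Module.finrank k A = 2 → ¬A ≤ H) :
    Module.finrank k ↥(H ⊓ A) ≤ 1 := by
  haveI : Module.Finite k A := Submodule.finiteDimensional_of_le hA
  have h1 : Module.finrank k ↥(H ⊓ A) ≤ Module.finrank k A := Submodule.finrank_mono inf_le_right
  by_cases h : Module.finrank k A = 2
  · have := finrank_inf_of_not_le hH hdim hA (hn h)
    omega
  · omega

end Abstract

variable {k : Type*} [Field k] [CharZero k] {ι : Type*} [DecidableEq ι] [Fintype ι]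
variable {r : ι → k} (a : ι → ℕ)

instance finite_Vsp [hr : Fact (Function.Injective r)] (b : ℕ) : Module.Finite k (Vsp r a b) := by
  rw [← map_T_eq_Vsp a hr.out b]; infer_instance

lemma finite_Vsp' (hr : Function.Injective r) (b : ℕ) : Module.Finite k (Vsp r a b) := by
  rw [← map_T_eq_Vsp a hr b]; infer_instance

lemma T_mem_Vsp (hr : Function.Injective r) {b : ℕ} {G : k[X]}
    (hG : G ∈ degreeLT k ((∑ j, a j) + b + 1)) : T r a G ∈ Vsp r a b :=
  map_T_eq_Vsp a hr b ▸ Submodule.mem_map_of_mem hG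

lemma pow_mem (q : k) {n M : ℕ} (h : n ≤ M) : (X - C q) ^ n ∈ degreeLT k (M + 1) := by
  rw [mem_degreeLT_succ, natDegree_pow, natDegree_X_sub_C]; omega

lemma T_pow_mem_root (hr : Function.Injective r) {b n j : ℕ} (i : ι) (hnj : n ≤ j)
    (hj : j ≤ (∑ l, a l) + b) :
    T r a ((X - C (r i)) ^ j) ∈
      Vsp r a b ⊓ (Ideal.span {(X - C (r i)) ^ n}).restrictScalars k := by
  rw [Vsp_inf_root a hr b i n]
  exact Submodule.mem_map_of_mem ⟨pow_mem (r i) hj,
    Ideal.mem_span_singleton.mpr (pow_dvd_pow _ hnj)⟩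

lemma T_pow_mem_point (hr : Function.Injective r) {b n j : ℕ} {q : k} (hq : ∀ l, q ≠ r l)
    (hnj : n + 1 ≤ j) (hj : j ≤ (∑ l, a l) + b) :
    T r a ((X - C q) ^ j) ∈ Vsp r a b ⊓ (Ideal.span {(X - C q) ^ n}).restrictScalars k := by
  rw [Vsp_inf_point a hr b hq n]
  exact Submodule.mem_map_of_mem ⟨pow_mem q hj,
    Ideal.mem_span_singleton.mpr (pow_dvd_pow _ hnj)⟩

/-- A member of `V` vanishing to order `N - 1` at an unmarked point is a multiple of
`T ((X - q)^N)`. -/
lemma mem_of_ne_bot (hr : Function.Injective r) {b N : ℕ} (hN : N = (∑ j, a j) + b) (hN0 : 1 ≤ N)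
    {q : k} (hq : ∀ j, q ≠ r j) {H : Submodule k k[X]} (hH : H ≤ Vsp r a b)
    (h : H ⊓ (Ideal.span {(X - C q) ^ (N - 1)}).restrictScalars k ≠ ⊥) :
    T r a ((X - C q) ^ N) ∈ H := by
  obtain ⟨x, ⟨hxH, hxI⟩, hx⟩ := Submodule.exists_mem_ne_zero_of_ne_bot h
  have h1 : x ∈ Vsp r a b ⊓ (Ideal.span {(X - C q) ^ (N - 1)}).restrictScalars k :=
    ⟨hH hxH, hxI⟩
  rw [Vsp_inf_point a hr b hq, Nat.sub_add_cancel hN0,
    degreeLT_inf_span ((monic_X_sub_C q).pow N)] at h1
  obtain ⟨_, ⟨y, hy, rfl⟩, rfl⟩ := h1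
  rw [SetLike.mem_coe, natDegree_pow, natDegree_X_sub_C, mul_one,
    show (∑ j, a j) + b + 1 - N = 0 + 1 by omega, mem_degreeLT_succ, Nat.le_zero] at hy
  have hy' : y = C (y.coeff 0) := eq_C_of_natDegree_eq_zero hy
  obtain ⟨u, hu⟩ : ∃ u, y = C u := ⟨_, hy'⟩
  subst hu
  rw [LinearMap.mulLeft_apply, mul_comm, ← smul_eq_C_mul, map_smul] at hxH hx
  have hu0 : u ≠ 0 := fun h0 => hx (by rw [h0, zero_smul])
  exact (Submodule.smul_mem_iff _ hu0).mp hxH

theorem Vsp_point_eq_bot (hr : Function.Injective r) (b : ℕ) {q : k} (hq : ∀ j, q ≠ r j) :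
    Vsp r a b ⊓ (Ideal.span {(X - C q) ^ ((∑ j, a j) + b)}).restrictScalars k = ⊥ := by
  haveI := finite_Vsp' a hr b
  haveI : Module.Finite k
      ↥(Vsp r a b ⊓ (Ideal.span {(X - C q) ^ ((∑ j, a j) + b)}).restrictScalars k) :=
    Submodule.finiteDimensional_inf_left _ _
  rw [← Submodule.finrank_eq_zero, finrank_Vsp_point a hr b hq, Nat.sub_self]

/-! Hyperplanes containing the drop-two subspace at infinity. -/

theorem T_mem_U (hr : Function.Injective r) {b N : ℕ} (hN : N = (∑ j, a j) + b) {G : k[X]}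
    (hG : G ∈ degreeLT k (N - 1)) : T r a G ∈ Vsp r a (b - 2) := by
  have hA : Vsp r a (b - 2) = (degreeLT k ((∑ j, a j) + (b - 2) + 1)).map (T r a) :=
    (map_T_eq_Vsp a hr _).symm
  rw [hA]
  rcases le_or_gt 2 b with hb | hb
  · exact Submodule.mem_map_of_mem (degreeLT_mono (by omega) hG)
  · exact Submodule.mem_map_of_mem (degreeLT_mono (by omega) hG)

theorem Vsp_le_of_top (hr : Function.Injective r) {b N : ℕ} (hN : N = (∑ j, a j) + b) (hN0 : 1 ≤ N)
    {H : Submodule k k[X]} (hU : Vsp r a (b - 2) ≤ H) {A B : k[X]}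
    (hA : A ∈ degreeLT k N) (hA0 : A.coeff (N - 1) ≠ 0) (hTA : T r a A ∈ H)
    (hB : B ∈ degreeLT k (N + 1)) (hB0 : B.coeff N ≠ 0) (hTB : T r a B ∈ H) :
    Vsp r a b ≤ H := by
  rw [← map_T_eq_Vsp a hr b, Submodule.map_le_iff_le_comap, ← hN]
  have step : ∀ (M : ℕ) (P : k[X]), P.coeff M ≠ 0 → P ∈ degreeLT k (M + 1) →
      P ∈ Submodule.comap (T r a) H → degreeLT k M ≤ Submodule.comap (T r a) H →
      degreeLT k (M + 1) ≤ Submodule.comap (T r a) H := by
    intro M P hP0 hP hPW hlow G hG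
    have h1 : G - (G.coeff M / P.coeff M) • P ∈ degreeLT k M := by
      rw [mem_degreeLT, degree_lt_iff_coeff_zero] at hG hP ⊢
      intro l hl
      rw [coeff_sub, coeff_smul, smul_eq_mul]
      rcases hl.eq_or_lt with rfl | hl'
      · rw [div_mul_cancel₀ _ hP0, sub_self]
      · rw [hG l hl', hP l hl', mul_zero, sub_zero]
    have h2 := Submodule.add_mem _ (hlow h1) (Submodule.smul_mem _ (G.coeff M / P.coeff M) hPW)
    rwa [sub_add_cancel] at h2
  obtain ⟨M, rfl⟩ : ∃ M, N = M + 1 := ⟨N - 1, by omega⟩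
  refine step _ B hB0 hB hTB (step M A hA0 hA hTA fun G hG => hU (T_mem_U a hr hN ?_))
  simpa using hG

theorem not_root_le_of_U (hr : Function.Injective r) {b N : ℕ} (hN : N = (∑ j, a j) + b)
    (hN0 : 1 ≤ N) {H : Submodule k k[X]} (hU : Vsp r a (b - 2) ≤ H) (hH : ¬Vsp r a b ≤ H) (i : ι) :
    ¬Vsp r a b ⊓ (Ideal.span {(X - C (r i)) ^ (N - 1)}).restrictScalars k ≤ H := by
  intro h
  have hd : ∀ j, ((X - C (r i)) ^ j).natDegree = j := fun j => by
    rw [natDegree_pow, natDegree_X_sub_C, mul_one]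
  have hc : ∀ j, ((X - C (r i)) ^ j).coeff j = 1 := fun j => by
    conv_lhs => arg 2; rw [← hd j]
    exact ((monic_X_sub_C _).pow j).coeff_natDegree
  refine hH (Vsp_le_of_top a hr hN hN0 hU (A := (X - C (r i)) ^ (N - 1)) ?_
    (by rw [hc]; exact one_ne_zero) (h (T_pow_mem_root a hr i le_rfl (by omega)))
    (pow_mem (r i) le_rfl) (by rw [hc]; exact one_ne_zero)
    (h (T_pow_mem_root a hr i (by omega) (by omega))))
  have h1 := pow_mem (r i) (le_refl (N - 1))
  rwa [Nat.sub_add_cancel hN0] at h1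

theorem not_point_le_of_U (hr : Function.Injective r) {b N : ℕ} (hN : N = (∑ j, a j) + b)
    (hN2 : 2 ≤ N) {H : Submodule k k[X]} (hU : Vsp r a (b - 2) ≤ H) (hH : ¬Vsp r a b ≤ H)
    {q : k} (hq : ∀ j, q ≠ r j) :
    ¬Vsp r a b ⊓ (Ideal.span {(X - C q) ^ (N - 2)}).restrictScalars k ≤ H := by
  intro h
  have hc : ∀ j, ((X - C q) ^ j).coeff j = 1 := fun j => by
    conv_lhs => arg 2; rw [show j = ((X - C q) ^ j).natDegree by
      rw [natDegree_pow, natDegree_X_sub_C, mul_one]]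
    exact ((monic_X_sub_C _).pow j).coeff_natDegree
  refine hH (Vsp_le_of_top a hr hN (by omega) hU (A := (X - C q) ^ (N - 1)) ?_
    (by rw [hc]; exact one_ne_zero) (h (T_pow_mem_point a hr hq (by omega) (by omega)))
    (pow_mem q le_rfl) (by rw [hc]; exact one_ne_zero)
    (h (T_pow_mem_point a hr hq (by omega) (by omega))))
  have h1 := pow_mem q (le_refl (N - 1))
  rwa [Nat.sub_add_cancel (by omega : 1 ≤ N)] at h1

theorem eq_of_U (hr : Function.Injective r) {b N : ℕ} (hN : N = (∑ j, a j) + b) (hN0 : 1 ≤ N)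
    {H : Submodule k k[X]} (hU : Vsp r a (b - 2) ≤ H) (hH : ¬Vsp r a b ≤ H) {q q' : k}
    (h : T r a ((X - C q) ^ N) ∈ H) (h' : T r a ((X - C q') ^ N) ∈ H) : q = q' := by
  by_contra hne
  have hd : ∀ x : k, ((X - C x) ^ N).natDegree = N := fun x => by
    rw [natDegree_pow, natDegree_X_sub_C, mul_one]
  have hc : ∀ x : k, ((X - C x) ^ N).coeff N = 1 ∧ ((X - C x) ^ N).coeff (N - 1) = -((N : k) * x) := by
    intro x
    rw [sub_eq_add_neg, ← map_neg, coeff_X_add_C_pow, coeff_X_add_C_pow]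
    refine ⟨by simp, ?_⟩
    rw [Nat.sub_sub_self hN0, pow_one, Nat.choose_symm hN0, Nat.choose_one_right]; ring
  refine hH (Vsp_le_of_top a hr hN hN0 hU (A := (X - C q) ^ N - (X - C q') ^ N) ?_ ?_
    (by rw [map_sub]; exact Submodule.sub_mem _ h h') (pow_mem q le_rfl)
    (by rw [(hc q).1]; exact one_ne_zero) h)
  · rw [mem_degreeLT, degree_lt_iff_coeff_zero]
    intro l hl
    rw [coeff_sub]
    rcases hl.eq_or_lt with rfl | hl'
    · rw [(hc q).1, (hc q').1, sub_self]
    · rw [coeff_eq_zero_of_natDegree_lt (by rw [hd]; exact hl'),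
        coeff_eq_zero_of_natDegree_lt (by rw [hd]; exact hl'), sub_self]
  · rw [coeff_sub, (hc q).2, (hc q').2]
    intro h0
    exact hne (mul_left_cancel₀ (Nat.cast_ne_zero.mpr (show N ≠ 0 by omega))
      (by linear_combination -h0))

/-! The subspace vanishing at a further point. -/

lemma eval_T (p : k) (G : k[X]) : (T r a G).eval p
    = (derivative G).eval p * (R r).eval p - G.eval p * (L r a).eval p := by simp [T_apply]

lemma eval_T_pow (p q : k) (n : ℕ) : (T r a ((X - C q) ^ (n + 1))).eval p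
    = (p - q) ^ n * ((n + 1 : k) * (R r).eval p - (p - q) * (L r a).eval p) := by
  rw [eval_T, derivative_X_sub_C_pow]
  simp only [Nat.add_sub_cancel, eval_mul, eval_C, eval_pow, eval_sub, eval_X]
  push_cast
  ring

lemma mem_Hp_iff {b : ℕ} {p : k} {x : k[X]} :
    x ∈ Vsp r a b ⊓ (Ideal.span {X - C p}).restrictScalars k ↔ x ∈ Vsp r a b ∧ x.eval p = 0 := by
  rw [Submodule.mem_inf, Submodule.restrictScalars_mem, Ideal.mem_span_singleton, dvd_iff_isRoot,
    IsRoot]

theorem finrank_Hp (hr : Function.Injective r) {b N : ℕ} (hN : N = (∑ j, a j) + b) (hN0 : 1 ≤ N)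
    {p : k} (hp : ∀ j, p ≠ r j) :
    Module.finrank k ↥(Vsp r a b ⊓ (Ideal.span {X - C p}).restrictScalars k) + 1 = N := by
  have h := finrank_Vsp_point a hr b hp 1
  rw [pow_one] at h
  omega

theorem not_both_zero {p q : k} (hp : ∀ j, p ≠ r j) (hq : q ≠ p) {n : ℕ}
    (h1 : (T r a ((X - C q) ^ (n + 1))).eval p = 0)
    (h2 : (T r a ((X - C q) ^ (n + 1 + 1))).eval p = 0) : False := by
  rw [eval_T_pow] at h1 h2
  have hpq : p - q ≠ 0 := sub_ne_zero.mpr hq.symm
  have e1 := (mul_eq_zero.mp h1).resolve_left (pow_ne_zero _ hpq)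
  have e2 := (mul_eq_zero.mp h2).resolve_left (pow_ne_zero _ hpq)
  push_cast at e2
  exact eval_Rs_ne r Finset.univ (fun j _ => hp j)
    (show (R r).eval p = 0 by linear_combination e2 - e1)

theorem not_root_le_Hp (hr : Function.Injective r) {b N : ℕ} (hN : N = (∑ j, a j) + b)
    (hN2 : 2 ≤ N) {p : k} (hp : ∀ j, p ≠ r j) (i : ι) :
    ¬Vsp r a b ⊓ (Ideal.span {(X - C (r i)) ^ (N - 1)}).restrictScalars k
      ≤ Vsp r a b ⊓ (Ideal.span {X - C p}).restrictScalars k := by
  intro h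
  obtain ⟨n, rfl⟩ : ∃ n, N = n + 2 := ⟨N - 2, by omega⟩
  exact not_both_zero a hp (hp i).symm (n := n)
    ((mem_Hp_iff a).mp (h (T_pow_mem_root a hr i (by omega) (by omega)))).2
    ((mem_Hp_iff a).mp (h (T_pow_mem_root a hr i (by omega) (by omega)))).2

theorem not_point_le_Hp (hr : Function.Injective r) {b N : ℕ} (hN : N = (∑ j, a j) + b)
    (hN2 : 2 ≤ N) {p q : k} (hp : ∀ j, p ≠ r j) (hq : ∀ j, q ≠ r j) (hqp : q ≠ p) :
    ¬Vsp r a b ⊓ (Ideal.span {(X - C q) ^ (N - 2)}).restrictScalars k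
      ≤ Vsp r a b ⊓ (Ideal.span {X - C p}).restrictScalars k := by
  intro h
  obtain ⟨n, rfl⟩ : ∃ n, N = n + 2 := ⟨N - 2, by omega⟩
  exact not_both_zero a hp hqp (n := n)
    ((mem_Hp_iff a).mp (h (T_pow_mem_point a hr hq (by omega) (by omega)))).2
    ((mem_Hp_iff a).mp (h (T_pow_mem_point a hr hq (by omega) (by omega)))).2

theorem eq_of_Hp {p q q' : k} (hp : ∀ j, p ≠ r j) (hq : q ≠ p) (hq' : q' ≠ p) {n : ℕ}
    (h : (T r a ((X - C q) ^ (n + 1))).eval p = 0)
    (h' : (T r a ((X - C q') ^ (n + 1))).eval p = 0) : q = q' := by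
  rw [eval_T_pow] at h h'
  have e1 := (mul_eq_zero.mp h).resolve_left (pow_ne_zero _ (sub_ne_zero.mpr hq.symm))
  have e2 := (mul_eq_zero.mp h').resolve_left (pow_ne_zero _ (sub_ne_zero.mpr hq'.symm))
  have hR : (R r).eval p ≠ 0 := eval_Rs_ne r Finset.univ fun j _ => hp j
  have hL : (L r a).eval p ≠ 0 := by
    intro h0
    rw [h0, mul_zero, sub_zero] at e1
    exact mul_ne_zero (Nat.cast_add_one_ne_zero n) hR e1
  exact mul_right_cancel₀ hL (by linear_combination e1 - e2)

theorem not_infty_le_Hp (hr : Function.Injective r) {b N : ℕ} (hN : N = (∑ j, a j) + b)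
    (hN0 : 1 ≤ N) {p : k} (hp : ∀ j, p ≠ r j) :
    ¬Vsp r a b ⊓ degreeLT k (N + Fintype.card ι - (N - 1))
      ≤ Vsp r a b ⊓ (Ideal.span {X - C p}).restrictScalars k := by
  intro h
  rw [hN, Vsp_inf_infty a hr b] at h
  have hmem : ∀ G : k[X], G.natDegree ≤ 1 → (T r a G).eval p = 0 := fun G hG =>
    ((mem_Hp_iff a).mp (h (Submodule.mem_map_of_mem (degreeLT_mono (by omega)
      (mem_degreeLT_succ.mpr hG))))).2
  have h1 := hmem 1 (by simp)
  have hX := hmem X natDegree_X_le
  rw [eval_T] at h1 hX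
  simp at h1 hX
  exact eval_Rs_ne r Finset.univ (fun j _ => hp j)
    (show (R r).eval p = 0 by rw [h1] at hX; simpa using hX)

end Groth.Agent.PolarLib
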